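import Groth.Agent.AssPointLib.S1
import Groth.Agent.HomogDenseLib.Max
import Groth.Prelude.Def_CInt
import Mathlib

/-! Schematic density and density under the condition (S₁). -/

set_option autoImplicit false
universe u

open CategoryTheory AlgebraicGeometry TopologicalSpace Opposite IsLocalRing

namespace SchDenseS1Lib

theorem dense_of_schDense {X : Scheme.{u}} (U : X.Opens) (hU : CInt.IsSchematicallyDense U) :
    Dense (U : Set X) := by
  rw [dense_iff_inter_open]
  intro W hW ⟨x, hx⟩
  by_contra hne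
  rw [Set.not_nonempty_iff_eq_empty] at hne
  let V : X.Opens := ⟨W, hW⟩
  have hbot : V ⊓ U = ⊥ := SetLike.coe_injective (by simpa [V] using hne)
  haveI : Subsingleton Γ(X, V ⊓ U) := by rw [hbot]; infer_instance
  haveI : Subsingleton Γ(X, V) := (hU V).subsingleton
  have h : (1 : X.presheaf.stalk x) = 0 := by
    rw [← map_one (X.presheaf.germ V x hx).hom, Subsingleton.elim (1 : Γ(X, V)) 0, map_zero]
  exact one_ne_zero h

theorem schDense_of_dense (X : Scheme.{u}) [IsLocallyNoetherian X]
    (hS1 : ∀ x : X, min (1 : WithBot ℕ∞) (ringKrullDim (X.presheaf.stalk x)) ≤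
      ((LocCoh.depth (X.presheaf.stalk x) (X.presheaf.stalk x) : ℕ∞) : WithBot ℕ∞))
    (U : X.Opens) (hd : Dense (U : Set X)) : CInt.IsSchematicallyDense U := by
  intro V
  refine (injective_iff_map_eq_zero _).2 fun s hs => ?_
  refine TopCat.Presheaf.section_ext X.sheaf V _ _ fun x hx => ?_
  obtain ⟨W, hW, hxW, hWV⟩ := exists_isAffineOpen_mem_and_subset (show x ∈ V from hx)
  let r : Γ(X, W) := X.presheaf.map (homOfLE hWV).op s
  suffices hr : r = 0 by
    change X.presheaf.germ V x hx s = X.presheaf.germ V x hx 0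
    rw [map_zero]
    refine (TopCat.Presheaf.germ_res_apply X.presheaf (homOfLE hWV) x hxW s).symm.trans ?_
    exact (congrArg (X.presheaf.germ W x hxW) hr).trans (map_zero _)
  by_contra hr
  haveI : IsNoetherianRing Γ(X, W) := IsLocallyNoetherian.component_noetherian ⟨W, hW⟩
  obtain ⟨q, hq, hle⟩ := exists_le_isAssociatedPrime_of_isNoetherianRing Γ(X, W) r hr
  haveI := hq.isPrime
  obtain ⟨-, t, ht⟩ := isAssociatedPrime_iff.1 hq
  let y : X := hW.fromSpec ⟨q, hq.isPrime⟩
  have hy : y ∈ W := by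
    have : hW.fromSpec ⟨q, hq.isPrime⟩ ∈ Set.range hW.fromSpec := ⟨_, rfl⟩
    rwa [hW.range_fromSpec] at this
  have hP : hW.primeIdealOf ⟨y, hy⟩ = ⟨q, hq.isPrime⟩ :=
    hW.fromSpec.isEmbedding.injective (hW.fromSpec_primeIdealOf _)
  letI : Algebra Γ(X, W) (X.presheaf.stalk y) := (X.presheaf.germ W y hy).hom.toAlgebra
  haveI hloc : IsLocalization.AtPrime (X.presheaf.stalk y) q := by
    have := hW.isLocalization_stalk ⟨y, hy⟩
    rw [hP] at this
    exact this
  have hass : IsAssociatedPrime (maximalIdeal (X.presheaf.stalk y)) (X.presheaf.stalk y) := by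
    refine isAssociatedPrime_iff.2 ⟨inferInstance, algebraMap Γ(X, W) _ t, le_antisymm ?_ ?_⟩
    · rw [← IsLocalization.AtPrime.map_eq_maximalIdeal q (X.presheaf.stalk y), Ideal.map_le_iff_le_comap]
      intro a ha
      rw [ht, Submodule.mem_colon_singleton, Submodule.mem_bot, smul_eq_mul] at ha
      rw [Ideal.mem_comap, Submodule.mem_colon_singleton, Submodule.mem_bot, smul_eq_mul, ← map_mul, ha, map_zero]
    · refine IsLocalRing.le_maximalIdeal fun e => ?_
      have h1 : (1 : X.presheaf.stalk y) * algebraMap Γ(X, W) _ t = 0 := by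
        have := (Submodule.eq_top_iff'.1 e) 1
        rwa [Submodule.mem_colon_singleton, Submodule.mem_bot] at this
      rw [one_mul, IsLocalization.map_eq_zero_iff q.primeCompl] at h1
      obtain ⟨⟨c, hc⟩, hc0⟩ := h1
      exact hc (show c ∈ q by rw [ht, Submodule.mem_colon_singleton, Submodule.mem_bot]; exact hc0)
  have hnd : ¬ (1 : ℕ∞) ≤ LocCoh.depth (X.presheaf.stalk y) (X.presheaf.stalk y) := fun h =>
    AssPointLib.one_le_depth_iff.1 h hass
  have hdim : ringKrullDim (X.presheaf.stalk y) ≤ 0 := by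
    have h := hS1 y
    rw [ENat.lt_one_iff_eq_zero.1 (not_le.1 hnd)] at h
    exact (min_le_iff.1 h).resolve_left (by norm_num)
  have hmax : Groth.Agent.HomogDense.IsMaxPt y := fun z hz => by
    have hzW : z ∈ W := hz.mem_open W.2 hy
    have hle' : hW.primeIdealOf ⟨z, hzW⟩ ≤ hW.primeIdealOf ⟨y, hy⟩ := by
      refine (PrimeSpectrum.le_iff_specializes _ _).2 ?_
      have h' := hW.fromSpec.isOpenEmbedding.isInducing.specializes_iff
        (x := hW.primeIdealOf ⟨z, hzW⟩) (y := hW.primeIdealOf ⟨y, hy⟩)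
      rw [hW.fromSpec_primeIdealOf, hW.fromSpec_primeIdealOf] at h'
      exact h'.1 hz
    have hh : q.height = 0 := by
      have := IsLocalization.AtPrime.ringKrullDim_eq_height q (X.presheaf.stalk y)
      rw [this] at hdim
      exact le_antisymm (by exact_mod_cast hdim) bot_le
    have hmin : q ∈ minimalPrimes Γ(X, W) := Ideal.height_eq_zero_iff.1 hh
    rw [hP] at hle'
    have he : hW.primeIdealOf ⟨z, hzW⟩ = ⟨q, hq.isPrime⟩ :=
      le_antisymm hle' (hmin.2 ⟨(hW.primeIdealOf ⟨z, hzW⟩).2, bot_le⟩ hle')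
    have := congrArg hW.fromSpec he
    rwa [hW.fromSpec_primeIdealOf] at this
  have hyU : y ∈ U := Groth.Agent.HomogDense.isMax_mem_of_dense U.2 hd hmax
  have h0 : X.presheaf.germ W y hy r = 0 := by
    refine (TopCat.Presheaf.germ_res_apply X.presheaf (homOfLE hWV) y hy s).trans ?_
    refine (TopCat.Presheaf.germ_res_apply X.presheaf (homOfLE (inf_le_left : V ⊓ U ≤ V)) y ⟨hWV hy, hyU⟩ s).symm.trans ?_
    exact (congrArg (X.presheaf.germ (V ⊓ U) y ⟨hWV hy, hyU⟩) hs).trans (map_zero _)
  obtain ⟨⟨c, hc⟩, hc0⟩ := (IsLocalization.map_eq_zero_iff q.primeCompl (X.presheaf.stalk y) r).1 h0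
  exact hc (show c ∈ q from hle (by rw [Submodule.mem_colon_singleton, Submodule.mem_bot]; exact hc0))

end SchDenseS1Lib
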